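import Mathlib

/-!
# `Tor₁` elementwise, naturally in the second variable

For a free presentation `0 → K → F → L → 0` the module `Tor₁(L, X)` is the kernel of `X ⊗ K → X ⊗ F`,
naturally in `X`.
-/

universe u

open CategoryTheory CategoryTheory.Limits TensorProduct MonoidalCategory

namespace Groth.Agent.TorElem

variable {R : Type u} [CommRing R]

section Homology

variable (C C' : ChainComplex (ModuleCat.{u} R) ℕ) (n : ℕ)

/-- `z` is a cycle representing the class `h`. -/
def IsCls (z : C.X n) (h : C.homology n) : Prop :=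
  ∃ c : C.cycles n, (C.iCycles n).hom c = z ∧ (C.homologyπ n).hom c = h

theorem exists_cls (h : C.homology n) : ∃ z, IsCls C n z h := by
  obtain ⟨c, hc⟩ := (ModuleCat.epi_iff_surjective _).1 (inferInstance : Epi (C.homologyπ n)) h
  exact ⟨_, c, rfl, hc⟩

theorem d_of_isCls {z : C.X n} {h : C.homology n} (hz : IsCls C n z h) (j : ℕ) : (C.d n j).hom z = 0 := by
  obtain ⟨c, rfl, -⟩ := hz
  exact congrArg (fun f => f.hom c) (C.iCycles_d n j)

theorem exists_cls_of_cycle (z : C.X (n + 1)) (hz : (C.d (n + 1) n).hom z = 0) :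
    ∃ h, IsCls C (n + 1) z h := by
  have hex : (ShortComplex.mk _ _ (C.iCycles_d (n + 1) n)).Exact :=
    ShortComplex.exact_of_f_is_kernel _ (C.cyclesIsKernel (n + 1) n (ComplexShape.next_eq' _ (by simp)))
  obtain ⟨c, hc⟩ := (ShortComplex.moduleCat_exact_iff _).1 hex z hz
  exact ⟨_, c, hc, rfl⟩

theorem isCls_zero_iff (z : C.X n) : IsCls C n z 0 ↔ ∃ y, (C.d (n + 1) n).hom y = z := by
  have hex : (ShortComplex.mk _ _ (C.toCycles_comp_homologyπ (n + 1) n)).Exact :=
    ShortComplex.exact_of_g_is_cokernel _ (C.homologyIsCokernel (n + 1) n (ComplexShape.prev_eq' _ (by simp)))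
  constructor
  · rintro ⟨c, rfl, hc⟩
    obtain ⟨y, rfl⟩ := (ShortComplex.moduleCat_exact_iff _).1 hex c hc
    exact ⟨y, (congrArg (fun f => f.hom y) (C.toCycles_i (n + 1) n)).symm⟩
  · rintro ⟨y, rfl⟩
    exact ⟨(C.toCycles (n + 1) n).hom y, congrArg (fun f => f.hom y) (C.toCycles_i (n + 1) n),
      congrArg (fun f => f.hom y) (C.toCycles_comp_homologyπ (n + 1) n)⟩

theorem IsCls.sub {C : ChainComplex (ModuleCat.{u} R) ℕ} {n : ℕ} {z z' : C.X n} {h h' : C.homology n}
    (hz : IsCls C n z h) (hz' : IsCls C n z' h') : IsCls C n (z - z') (h - h') := by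
  obtain ⟨c, rfl, rfl⟩ := hz
  obtain ⟨c', rfl, rfl⟩ := hz'
  exact ⟨c - c', map_sub _ _ _, map_sub _ _ _⟩

theorem IsCls.map {C C' : ChainComplex (ModuleCat.{u} R) ℕ} {n : ℕ} {z : C.X n} {h : C.homology n}
    (hz : IsCls C n z h) (φ : C ⟶ C') :
    IsCls C' n ((φ.f n).hom z) ((HomologicalComplex.homologyMap φ n).hom h) := by
  obtain ⟨c, rfl, rfl⟩ := hz
  exact ⟨(HomologicalComplex.cyclesMap φ n).hom c,
    congrArg (fun f => f.hom c) (HomologicalComplex.cyclesMap_i φ n),
    (congrArg (fun f => f.hom c) (HomologicalComplex.homologyπ_naturality φ n)).symm⟩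

end Homology

section Chase

variable {K F L P2 P1 P0 X : Type u} [AddCommGroup K] [Module R K] [AddCommGroup F] [Module R F]
  [AddCommGroup L] [Module R L] [AddCommGroup P2] [Module R P2] [AddCommGroup P1] [Module R P1]
  [AddCommGroup P0] [Module R P0] [AddCommGroup X] [Module R X]
  (i : K →ₗ[R] F) (p : F →ₗ[R] L) (d2 : P2 →ₗ[R] P1) (d1 : P1 →ₗ[R] P0) (ε : P0 →ₗ[R] X)

/-- The relation between a cycle `z` of `P ⊗ L` and its image `t` in `X ⊗ K`. -/
def Rel (z : P1 ⊗[R] L) (t : X ⊗[R] K) : Prop :=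
  ∃ (w : P1 ⊗[R] F) (v : P0 ⊗[R] K),
    p.lTensor P1 w = z ∧ i.lTensor P0 v = d1.rTensor F w ∧ ε.rTensor K v = t

variable {i p d2 d1 ε}

theorem Rel.sub {z z' : P1 ⊗[R] L} {t t' : X ⊗[R] K} (h : Rel i p d1 ε z t) (h' : Rel i p d1 ε z' t') :
    Rel i p d1 ε (z - z') (t - t') := by
  obtain ⟨w, v, h1, h2, h3⟩ := h
  obtain ⟨w', v', h1', h2', h3'⟩ := h'
  exact ⟨w - w', v - v', by rw [map_sub, h1, h1'], by rw [map_sub, map_sub, h2, h2'], by rw [map_sub, h3, h3']⟩

theorem Rel.map {P1' P0' X' : Type u} [AddCommGroup P1'] [Module R P1'] [AddCommGroup P0'] [Module R P0']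
    [AddCommGroup X'] [Module R X'] {d1' : P1' →ₗ[R] P0'} {ε' : P0' →ₗ[R] X'}
    {f1 : P1 →ₗ[R] P1'} {f0 : P0 →ₗ[R] P0'} {g : X →ₗ[R] X'} (hd : d1' ∘ₗ f1 = f0 ∘ₗ d1)
    (hε : ε' ∘ₗ f0 = g ∘ₗ ε) {z : P1 ⊗[R] L} {t : X ⊗[R] K} (h : Rel i p d1 ε z t) :
    Rel i p d1' ε' (f1.rTensor L z) (g.rTensor K t) := by
  obtain ⟨w, v, h1, h2, h3⟩ := h
  refine ⟨f1.rTensor F w, f0.rTensor K v, ?_, ?_, ?_⟩
  · rw [← LinearMap.comp_apply, LinearMap.lTensor_comp_rTensor, ← LinearMap.rTensor_comp_lTensor,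
      LinearMap.comp_apply, h1]
  · rw [← LinearMap.comp_apply, LinearMap.lTensor_comp_rTensor, ← LinearMap.rTensor_comp_lTensor,
      LinearMap.comp_apply, h2, ← LinearMap.comp_apply, ← LinearMap.comp_apply, ← LinearMap.rTensor_comp,
      ← LinearMap.rTensor_comp, hd]
  · rw [← h3, ← LinearMap.comp_apply, ← LinearMap.comp_apply, ← LinearMap.rTensor_comp,
      ← LinearMap.rTensor_comp, hε]

theorem exists_rel (hip : Function.Exact i p) (hp : Function.Surjective p) (hε1 : Function.Exact d1 ε)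
    {z : P1 ⊗[R] L} (hz : d1.rTensor L z = 0) :
    ∃ t, Rel i p d1 ε z t ∧ i.lTensor X t = 0 := by
  obtain ⟨w, rfl⟩ := LinearMap.lTensor_surjective P1 hp z
  rw [← LinearMap.comp_apply, LinearMap.rTensor_comp_lTensor, ← LinearMap.lTensor_comp_rTensor,
    LinearMap.comp_apply] at hz
  obtain ⟨v, hv⟩ := (lTensor_exact P0 hip hp _).1 hz
  refine ⟨_, ⟨w, v, rfl, hv, rfl⟩, ?_⟩
  rw [← LinearMap.comp_apply, LinearMap.lTensor_comp_rTensor, ← LinearMap.rTensor_comp_lTensor,
    LinearMap.comp_apply, hv, ← LinearMap.comp_apply, ← LinearMap.rTensor_comp,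
    hε1.linearMap_comp_eq_zero, LinearMap.rTensor_zero, LinearMap.zero_apply]

theorem exists_cycle_of_ker (hip : Function.Exact i p) (hε : Function.Surjective ε)
    (hε1 : Function.Exact d1 ε) {t : X ⊗[R] K} (ht : i.lTensor X t = 0) :
    ∃ z, d1.rTensor L z = 0 ∧ Rel i p d1 ε z t := by
  obtain ⟨v, rfl⟩ := LinearMap.rTensor_surjective K hε t
  rw [← LinearMap.comp_apply, LinearMap.lTensor_comp_rTensor, ← LinearMap.rTensor_comp_lTensor,
    LinearMap.comp_apply] at ht
  obtain ⟨w, hw⟩ := (rTensor_exact F hε1 hε _).1 ht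
  refine ⟨p.lTensor P1 w, ?_, w, v, rfl, hw.symm, rfl⟩
  rw [← LinearMap.comp_apply, LinearMap.rTensor_comp_lTensor, ← LinearMap.lTensor_comp_rTensor,
    LinearMap.comp_apply, hw, ← LinearMap.comp_apply, ← LinearMap.lTensor_comp,
    hip.linearMap_comp_eq_zero, LinearMap.lTensor_zero, LinearMap.zero_apply]

theorem eq_zero_of_boundary [Module.Flat R P0] (hip : Function.Exact i p) (hp : Function.Surjective p)
    (hi : Function.Injective i) (hd : d1 ∘ₗ d2 = 0) (hε1 : Function.Exact d1 ε)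
    {y : P2 ⊗[R] L} {t : X ⊗[R] K} (h : Rel i p d1 ε (d2.rTensor L y) t) : t = 0 := by
  obtain ⟨w, v, h1, h2, rfl⟩ := h
  obtain ⟨y', rfl⟩ := LinearMap.lTensor_surjective P2 hp y
  have h4 : p.lTensor P1 (w - d2.rTensor F y') = 0 := by
    rw [map_sub, h1, ← LinearMap.comp_apply, ← LinearMap.comp_apply, LinearMap.rTensor_comp_lTensor,
      LinearMap.lTensor_comp_rTensor, sub_self]
  obtain ⟨k, hk⟩ := (lTensor_exact P1 hip hp _).1 h4
  have h5 : v = d1.rTensor K k := by
    apply Module.Flat.lTensor_preserves_injective_linearMap (M := P0) i hi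
    rw [h2, ← LinearMap.comp_apply (i.lTensor P0), LinearMap.lTensor_comp_rTensor,
      ← LinearMap.rTensor_comp_lTensor, LinearMap.comp_apply, hk, map_sub,
      ← LinearMap.comp_apply (d1.rTensor F) (d2.rTensor F), ← LinearMap.rTensor_comp, hd,
      LinearMap.rTensor_zero, LinearMap.zero_apply, sub_zero]
  rw [h5, ← LinearMap.comp_apply, ← LinearMap.rTensor_comp, hε1.linearMap_comp_eq_zero,
    LinearMap.rTensor_zero, LinearMap.zero_apply]

theorem exists_boundary_of_rel_zero [Module.Flat R F] (hip : Function.Exact i p)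
    (hd : Function.Exact d2 d1) (hε : Function.Surjective ε) (hε1 : Function.Exact d1 ε)
    {z : P1 ⊗[R] L} (h : Rel i p d1 ε z 0) : ∃ y, d2.rTensor L y = z := by
  obtain ⟨w, v, rfl, h2, h3⟩ := h
  obtain ⟨k, rfl⟩ := (rTensor_exact K hε1 hε _).1 h3
  have h4 : d1.rTensor F (w - i.lTensor P1 k) = 0 := by
    rw [map_sub, ← h2, ← LinearMap.comp_apply, ← LinearMap.comp_apply, LinearMap.rTensor_comp_lTensor,
      LinearMap.lTensor_comp_rTensor, sub_self]
  obtain ⟨y, hy⟩ := (Module.Flat.rTensor_exact F hd _).1 h4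
  refine ⟨p.lTensor P2 y, ?_⟩
  rw [← LinearMap.comp_apply, LinearMap.rTensor_comp_lTensor, ← LinearMap.lTensor_comp_rTensor,
    LinearMap.comp_apply, hy, map_sub, ← LinearMap.comp_apply _ (i.lTensor P1), ← LinearMap.lTensor_comp,
    hip.linearMap_comp_eq_zero, LinearMap.lTensor_zero, LinearMap.zero_apply, sub_zero]

end Chase

section Tor

variable {L : Type u} [AddCommGroup L] [Module R L]

/-- Comparison of the complex `L ⊗ P` computing `Tor` with `P ⊗ L`. -/
theorem exists_natural_ker {K F : Type u} [AddCommGroup K] [Module R K] [AddCommGroup F] [Module R F]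
    [Module.Flat R F] (i : K →ₗ[R] F) (p : F →ₗ[R] L) (hi : Function.Injective i)
    (hip : Function.Exact i p) (hp : Function.Surjective p) :
    ∃ θ : ∀ X : ModuleCat.{u} R,
      ((CategoryTheory.Tor (ModuleCat.{u} R) 1).obj (ModuleCat.of R L)).obj X →ₗ[R] X ⊗[R] K,
      (∀ X, Function.Injective (θ X)) ∧ (∀ X, LinearMap.range (θ X) = LinearMap.ker (i.lTensor X)) ∧
      ∀ (X Y : ModuleCat.{u} R) (f : X ⟶ Y) (h : ((CategoryTheory.Tor (ModuleCat.{u} R) 1).obj (ModuleCat.of R L)).obj X),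
        θ Y ((((CategoryTheory.Tor (ModuleCat.{u} R) 1).obj (ModuleCat.of R L)).map f).hom h) = f.hom.rTensor K (θ X h) := by
  let G : ModuleCat.{u} R ⥤ ModuleCat.{u} R := tensorLeft (ModuleCat.of R L)
  let P : ∀ X : ModuleCat.{u} R, ProjectiveResolution X := fun X => projectiveResolution X
  let C : ∀ X : ModuleCat.{u} R, ChainComplex (ModuleCat.{u} R) ℕ := fun X =>
    (G.mapHomologicalComplex (ComplexShape.down ℕ)).obj (P X).complex
  let e : ∀ X : ModuleCat.{u} R,
      ((CategoryTheory.Tor (ModuleCat.{u} R) 1).obj (ModuleCat.of R L)).obj X ≅ (C X).homology 1 :=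
    fun X => (P X).isoLeftDerivedObj G 1
  let cm : ∀ (X : ModuleCat.{u} R) (m : ℕ), (C X).X m →ₗ[R] ((P X).complex.X m : Type u) ⊗[R] L :=
    fun X m => (TensorProduct.comm R L ((P X).complex.X m : Type u)).toLinearMap
  have hcm : ∀ (X : ModuleCat.{u} R) (a b : ℕ) (z : (C X).X a),
      cm X b (((C X).d a b).hom z) = ((P X).complex.d a b).hom.rTensor L (cm X a z) := by
    intro X a b z
    show TensorProduct.comm R L ((P X).complex.X b : Type u) (((P X).complex.d a b).hom.lTensor L z) =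
      ((P X).complex.d a b).hom.rTensor L (TensorProduct.comm R L ((P X).complex.X a : Type u) z)
    refine TensorProduct.induction_on z ?_ (fun l x => rfl) fun x y hx hy => ?_
    · rw [map_zero, map_zero, map_zero, map_zero]
    · rw [map_add, map_add, hx, hy, map_add, map_add]
  have hπ : ∀ X, Function.Surjective ((P X).π.f 0).hom := fun X =>
    (ModuleCat.epi_iff_surjective _).1 inferInstance
  have hex0 : ∀ X, Function.Exact ((P X).complex.d 1 0).hom ((P X).π.f 0).hom := fun X =>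
    (ShortComplex.ShortExact.moduleCat_exact_iff_function_exact _).1 (P X).exact₀
  have hex1 : ∀ X, Function.Exact ((P X).complex.d 2 1).hom ((P X).complex.d 1 0).hom := fun X =>
    (ShortComplex.ShortExact.moduleCat_exact_iff_function_exact _).1
      ((HomologicalComplex.exactAt_iff' _ 2 1 0 (by simp) (by simp)).1 ((P X).complex_exactAt_succ 0))
  have hd : ∀ X, ((P X).complex.d 1 0).hom ∘ₗ ((P X).complex.d 2 1).hom = 0 := fun X =>
    (hex1 X).linearMap_comp_eq_zero
  haveI hflat : ∀ X, Module.Flat R ((P X).complex.X 0 : Type u) := fun X => by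
    haveI : Module.Projective R ((P X).complex.X 0 : Type u) :=
      (IsProjective.iff_projective _).2 ((P X).projective 0)
    infer_instance
  let Θ : ∀ X : ModuleCat.{u} R, (C X).homology 1 → (X : Type u) ⊗[R] K → Prop := fun X h t =>
    ∃ z, IsCls (C X) 1 z h ∧
      Rel i p ((P X).complex.d 1 0).hom ((P X).π.f 0).hom (cm X 1 z) t
  have hexist : ∀ X h, ∃ t, Θ X h t ∧ i.lTensor X t = 0 := by
    intro X h
    obtain ⟨z, hz⟩ := exists_cls (C X) 1 h
    obtain ⟨t, ht, ht'⟩ := exists_rel hip hp (hex0 X) (z := cm X 1 z)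
      (by rw [← hcm, d_of_isCls _ _ hz, map_zero])
    exact ⟨t, ⟨z, hz, ht⟩, ht'⟩
  have huniq : ∀ X h t t', Θ X h t → Θ X h t' → t = t' := by
    rintro X h t t' ⟨z, hz, ht⟩ ⟨z', hz', ht'⟩
    have hz0 := hz.sub hz'
    rw [sub_self] at hz0
    obtain ⟨y, hy⟩ := (isCls_zero_iff _ _ _).1 hz0
    have hr := ht.sub ht'
    rw [← map_sub, ← hy, hcm] at hr
    exact sub_eq_zero.1 (eq_zero_of_boundary hip hp hi (hd X) (hex0 X) hr)
  choose θ₀ hθ₀ hker using hexist
  let θ : ∀ X : ModuleCat.{u} R, (C X).homology 1 →+ (X : Type u) ⊗[R] K := fun X =>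
    AddMonoidHom.ofMapSub (θ₀ X) fun a b => by
      refine huniq X _ _ _ (hθ₀ X _) ?_
      obtain ⟨z, hz, ht⟩ := hθ₀ X a
      obtain ⟨z', hz', ht'⟩ := hθ₀ X b
      exact ⟨z - z', hz.sub hz', by rw [map_sub]; exact ht.sub ht'⟩
  have hsmul : ∀ X (c : R) (a : (C X).homology 1), θ X (c • a) = c • θ X a := by
    intro X c a
    refine huniq X _ _ _ (hθ₀ X _) ?_
    obtain ⟨z, ⟨cz, hcz, hcz'⟩, w, v, h1, h2, h3⟩ := hθ₀ X a
    refine ⟨c • z, ⟨c • cz, ?_, ?_⟩, c • w, c • v, ?_, ?_, ?_⟩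
    · rw [map_smul, hcz]
    · rw [map_smul, hcz']
    · rw [map_smul, h1, map_smul]
    · rw [map_smul, h2, map_smul]
    · rw [map_smul, h3]; rfl
  let θl : ∀ X : ModuleCat.{u} R, (C X).homology 1 →ₗ[R] (X : Type u) ⊗[R] K := fun X =>
    { toFun := θ X, map_add' := map_add _, map_smul' := hsmul X }
  refine ⟨fun X => (θl X) ∘ₗ (e X).hom.hom, fun X => ?_, fun X => ?_, fun X Y f h => ?_⟩
  · show Function.Injective (θl X ∘ (e X).toLinearEquiv)
    refine Function.Injective.comp ?_ (e X).toLinearEquiv.injective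
    refine (injective_iff_map_eq_zero (θl X)).2 fun a ha => ?_
    obtain ⟨z, hz, ht⟩ := hθ₀ X a
    have ha' : θ₀ X a = 0 := ha
    rw [ha'] at ht
    obtain ⟨y, hy⟩ := exists_boundary_of_rel_zero hip (hex1 X) (hπ X) (hex0 X) ht
    obtain ⟨y', rfl⟩ : ∃ y', cm X 2 y' = y := (TensorProduct.comm R L ((P X).complex.X 2 : Type u)).surjective y
    rw [← hcm] at hy
    have h0 : IsCls (C X) 1 z 0 := (isCls_zero_iff _ _ _).2
      ⟨y', (TensorProduct.comm R L ((P X).complex.X 1 : Type u)).injective hy⟩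
    obtain ⟨c, hc, hc'⟩ := h0
    obtain ⟨c', hc1, hc2⟩ := hz
    rw [← hc2, show c' = c from (ModuleCat.mono_iff_injective _).1 inferInstance (hc1.trans hc.symm), hc']
  · ext t
    constructor
    · rintro ⟨a, rfl⟩
      exact hker X _
    · intro ht
      obtain ⟨z, hz, hr⟩ := exists_cycle_of_ker hip (hπ X) (hex0 X) ht
      obtain ⟨z', rfl⟩ : ∃ z', cm X 1 z' = z := (TensorProduct.comm R L ((P X).complex.X 1 : Type u)).surjective z
      obtain ⟨a, ha⟩ := exists_cls_of_cycle (C X) 0 z' (by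
        apply (TensorProduct.comm R L ((P X).complex.X 0 : Type u)).injective
        show cm X 0 _ = cm X 0 0
        rw [hcm, hz, map_zero])
      obtain ⟨b, rfl⟩ := (e X).toLinearEquiv.surjective a
      exact ⟨b, huniq X _ _ _ (hθ₀ X _) ⟨z', ha, hr⟩⟩
  · let φ := ProjectiveResolution.lift f (P X) (P Y)
    have hnat := congrArg (fun g => g.hom h) ((P X).isoLeftDerivedObj_hom_naturality f (P Y) φ
      (ProjectiveResolution.lift_commutes_zero f _ _) G 1)
    show θ₀ Y ((e Y).hom.hom ((G.leftDerived 1).map f h)) = _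
    refine huniq Y _ _ _ (hθ₀ Y _) ?_
    obtain ⟨z, hz, hr⟩ := hθ₀ X ((e X).hom.hom h)
    refine ⟨(((G.mapHomologicalComplex (ComplexShape.down ℕ)).map φ).f 1).hom z, ?_, ?_⟩
    · have := hz.map ((G.mapHomologicalComplex _).map φ)
      exact (congrArg (IsCls (C Y) 1 _) hnat).mpr this
    · have key : cm Y 1 ((((G.mapHomologicalComplex _).map φ).f 1).hom z) = (φ.f 1).hom.rTensor L (cm X 1 z) := by
        show TensorProduct.comm R L ((P Y).complex.X 1 : Type u) ((φ.f 1).hom.lTensor L z) =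
          (φ.f 1).hom.rTensor L (TensorProduct.comm R L ((P X).complex.X 1 : Type u) z)
        refine TensorProduct.induction_on z ?_ (fun l x => rfl) fun x y hx hy => ?_
        · rw [map_zero, map_zero, map_zero, map_zero]
        · rw [map_add, map_add, hx, hy, map_add, map_add]
      rw [key]
      exact hr.map (congrArg ModuleCat.Hom.hom (φ.comm 1 0))
        (congrArg ModuleCat.Hom.hom (ProjectiveResolution.lift_commutes_zero f (P X) (P Y)))

end Tor

end Groth.Agent.TorElem
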